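import Groth.Agent.Lib.PullLoc25.TensorApps
import Groth.Agent.Lib.PullLoc25.Free
import Groth.Agent.Lib.ModExtZero.KFlat
import Groth.Agent.Lib.GlobFree25.Basic

/-! # The inverse image and extension by zero, on elements -/

set_option autoImplicit false
set_option linter.all false
set_option maxHeartbeats 800000
set_option backward.isDefEq.respectTransparency false
set_option backward.isDefEq.respectTransparency.types false
universe u

open CategoryTheory CategoryTheory.Limits Opposite MonoidalCategory GrothLib.SheafCoh GrothLib.ModFlat GrothLib.PullLoc25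

noncomputable section

namespace GrothLib.PullPres25

section site

variable {C : Type u} [SmallCategory C] {J : GrothendieckTopology C} (O : Sheaf J CommRingCat.{u}) (U : C)

/-- The sections over the base of a module on a slice. -/
abbrev top (P : ModSite.Mod (O.over U)) : Type u := P.val.obj (op (Over.mk (𝟙 U)))

/-- The unit of extension by zero at the base. -/
def ju {P : ModSite.Mod (O.over U)} (x : top O U P) : ModSite.sect ((ModSite.extZero O U).obj P) U :=
  ((ModSite.extZeroAdj O U).unit.app P).val.app (op (Over.mk (𝟙 U))) x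

theorem ju_natural {P P' : ModSite.Mod (O.over U)} (a : P ⟶ P') (x : top O U P) :
    ju O U (a.val.app (op (Over.mk (𝟙 U))) x) =
      ((ModSite.extZero O U).map a).val.app (op U) (ju O U x) :=
  congrArg (fun k => k.val.app (op (Over.mk (𝟙 U))) x) ((ModSite.extZeroAdj O U).unit.naturality a)

/-- The generator of the free module on an object. -/
def gen : ModSite.sect (ModSite.freeOn O U) U := ju O U (P := SheafOfModules.unit _) (1 : O.obj.obj (op U))

theorem freeOnEquiv_apply (G : ModSite.Mod O) (a : ModSite.freeOn O U ⟶ G) :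
    freeOnEquiv O U G a = a.val.app (op U) (gen O U) := rfl

theorem extZeroIso_app_unit (P : ModSite.Mod (O.over U)) (x : top O U P) :
    ((ModExtZero.extZeroIso O U).hom.app P).val.app (op U)
      (((shfAdj O).unit.app ((ModExtZero.extP O U).obj ((forgetP (O.over U)).obj P))).app (op U)
        (ModExtZero.incl ((forgetP (O.over U)).obj P) (op U) (𝟙 U) x)) = ju O U x := by
  have h1 := Adjunction.unit_leftAdjointUniq_hom_app (ModExtZero.extShfAdj O U) (ModSite.extZeroAdj O U) P
  have h2 : (forgetP (O.over U)).map ((ModExtZero.extShfAdj O U).unit.app P) =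
      ((ModExtZero.extPAdj O U).comp (shfAdj O)).unit.app ((forgetP (O.over U)).obj P) := by
    refine (Adjunction.map_restrictFullyFaithful_unit_app (iC := forgetP (O.over U)) (iD := 𝟭 _) _ _ _ _ _ P).trans ?_
    simp
    rfl
  unfold ju
  rw [← h1]
  refine congrArg (((ModExtZero.extZeroIso O U).hom.app P).val.app (op U)) ?_
  exact (congrArg (fun k => k.app (op (Over.mk (𝟙 U))) x) h2).symm

theorem shfExtZeroIso_app_unit (Z : PMod' (O.over U)) (z : Z.obj (op (Over.mk (𝟙 U)))) :
    ((ModExtZero.shfExtZeroIso O U).hom.app Z).val.app (op U)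
      (ju O U (((shfAdj (O.over U)).unit.app Z).app (op (Over.mk (𝟙 U))) z)) =
      ((shfAdj O).unit.app ((ModExtZero.extP O U).obj Z)).app (op U) (ModExtZero.incl Z (op U) (𝟙 U) z) := by
  have h1 := Adjunction.unit_leftAdjointUniq_hom_app
    (((shfAdj (O.over U)).comp (ModSite.extZeroAdj O U)).ofNatIsoRight (ModExtZero.forgetRestrIso O U).symm)
    ((ModExtZero.extPAdj O U).comp (shfAdj O)) Z
  refine Eq.trans ?_ (congrArg (fun k => k.app (op (Over.mk (𝟙 U))) z) h1)
  rfl

theorem tensorUnit_hom_tm (M : ModSite.Mod (O.over U)) (x : top O U M) :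
    (ModExtZero.tensorUnitIso M).hom.val.app (op (Over.mk (𝟙 U)))
      (tm (SheafOfModules.unit _) M (U := Over.mk (𝟙 U)) (1 : O.obj.obj (op U)) x) = x := by
  have h1 := congrArg (fun k => k.app (op (Over.mk (𝟙 U)))
      (ps (SheafOfModules.unit _ : ModSite.Mod (O.over U)) (U := Over.mk (𝟙 U)) (1 : O.obj.obj (op U)) ⊗ₜ
        ps M (U := Over.mk (𝟙 U)) x))
    ((shfAdj (O.over U)).unit.naturality (λ_ ((forgetP (O.over U)).obj M)).hom)
  refine (congrArg (((shfAdj (O.over U)).counit.app M).val.app (op (Over.mk (𝟙 U)))) h1.symm).trans ?_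
  exact (congrArg (fun k : (forgetP (O.over U)).obj M ⟶ (forgetP (O.over U)).obj M => k.app (op (Over.mk (𝟙 U)))
      ((λ_ ((forgetP (O.over U)).obj M)).hom.app (op (Over.mk (𝟙 U)))
        (ps (SheafOfModules.unit _ : ModSite.Mod (O.over U)) (U := Over.mk (𝟙 U)) (1 : O.obj.obj (op U)) ⊗ₜ
          ps M (U := Over.mk (𝟙 U)) x)))
    ((shfAdj (O.over U)).right_triangle_components M)).trans (one_smul (O.obj.obj (op U)) x)

theorem projIso_hom_ju (G : ModSite.Mod O) (x : ModSite.sect G U) :
    (ModExtZero.projIso O U (SheafOfModules.unit _) G).hom.val.app (op U)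
      (ju O U (tm (SheafOfModules.unit _) ((ModSite.restr O U).obj G) (U := Over.mk (𝟙 U))
        (1 : O.obj.obj (op U)) x)) = tm (ModSite.freeOn O U) G (gen O U) x := by
  let P : PMod' (O.over U) := (forgetP (O.over U)).obj (SheafOfModules.unit _)
  let N : PMod' O := (forgetP O).obj G
  let one : P.obj (op (Over.mk (𝟙 U))) := (1 : O.obj.obj (op U))
  let EP := (ModExtZero.extP O U).obj P
  have e1 := shfExtZeroIso_app_unit O U (P ⊗ (ModExtZero.resP O U).obj N) (one ⊗ₜ x)
  have e2 := congrArg (fun k => k.app (op U) (ModExtZero.incl (P ⊗ (ModExtZero.resP O U).obj N) (op U) (𝟙 U) (one ⊗ₜ x)))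
    ((shfAdj O).unit.naturality (ModExtZero.projMap P N))
  have e3 := congrArg (fun k => k.app (op U) ((ModExtZero.incl P (op U) (𝟙 U) one : EP.obj (op U)) ⊗ₜ x))
    ((shfAdj O).unit.naturality ((shfAdj O).unit.app EP ▷ N))
  let A₂ := (shf O).map (ModExtZero.projMap P N)
  let A₃ := (shf O).map ((shfAdj O).unit.app EP ▷ N)
  let A₄ := (shf O).map ((forgetP O).map ((ModExtZero.extZeroIso O U).hom.app (SheafOfModules.unit _)) ▷ N)
  simp only [ModExtZero.projIso, Iso.trans_hom]
  refine (congrArg (fun t => A₄.val.app (op U) (A₃.val.app (op U) (A₂.val.app (op U) t))) e1).trans ?_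
  refine (congrArg (fun t => A₄.val.app (op U) (A₃.val.app (op U) t)) e2.symm).trans ?_
  refine (congrArg (fun t => A₄.val.app (op U) (A₃.val.app (op U) (((shfAdj O).unit.app (EP ⊗ N)).app (op U) t)))
    (ModExtZero.projMap_app P N (op U) (𝟙 U) one x)).trans ?_
  refine (congrArg (fun t => A₄.val.app (op U) t) e3.symm).trans ?_
  have e4 := congrArg (fun k => k.app (op U)
      ((((shfAdj O).unit.app EP).app (op U) (ModExtZero.incl P (op U) (𝟙 U) one)) ⊗ₜ x))
    ((shfAdj O).unit.naturality ((forgetP O).map ((ModExtZero.extZeroIso O U).hom.app (SheafOfModules.unit _)) ▷ N))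
  refine e4.symm.trans ?_
  exact congrArg (fun t => tm (ModSite.freeOn O U) G t x) (extZeroIso_app_unit O U (SheafOfModules.unit _) one)

/-- `j_!(G|U) ≅ j_!O ⊗ G`. -/
def jTensorIso (G : ModSite.Mod O) :
    (ModSite.extZero O U).obj ((ModSite.restr O U).obj G) ≅
      ((ModSite.tensorBi O).obj (ModSite.freeOn O U)).obj G :=
  (ModSite.extZero O U).mapIso (ModExtZero.tensorUnitIso ((ModSite.restr O U).obj G)).symm ≪≫
    ModExtZero.projIso O U (SheafOfModules.unit _) G

theorem jTensorIso_ju (G : ModSite.Mod O) (x : ModSite.sect G U) :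
    (jTensorIso O U G).hom.val.app (op U) (ju O U (P := (ModSite.restr O U).obj G) x) =
      tm (ModSite.freeOn O U) G (gen O U) x := by
  let T := ModExtZero.tensorUnitIso ((ModSite.restr O U).obj G)
  let t := tm (SheafOfModules.unit _) ((ModSite.restr O U).obj G) (U := Over.mk (𝟙 U)) (1 : O.obj.obj (op U)) x
  have h : T.inv.val.app (op (Over.mk (𝟙 U))) x = t := by
    rw [← tensorUnit_hom_tm O U ((ModSite.restr O U).obj G) x]
    exact congrArg (fun k => k.val.app (op (Over.mk (𝟙 U))) t) T.hom_inv_id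
  refine Eq.trans ?_ (projIso_hom_ju O U G x)
  refine congrArg ((ModExtZero.projIso O U (SheafOfModules.unit _) G).hom.val.app (op U)) ?_
  exact (ju_natural O U T.inv x).symm.trans (congrArg (ju O U) h)

theorem hom_ext_free {I : Type u} {M : ModSite.Mod O}
    (a b : (ModSite.extZero O U).obj (SheafOfModules.free (R := (ModSite.ringSh O).over U) I) ⟶ M)
    (h : ∀ i, a.val.app (op U) (ju O U (GlobFree25.e ((ModSite.ringSh O).over U) (X := Over.mk (𝟙 U)) i)) =
      b.val.app (op U) (ju O U (GlobFree25.e ((ModSite.ringSh O).over U) (X := Over.mk (𝟙 U)) i))) : a = b :=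
  ((ModSite.extZeroAdj O U).homEquiv _ _).injective
    (GlobFree25.hom_ext_free ((ModSite.ringSh O).over U) (Over.mkIdTerminal) _ _ h)

end site

section morphism

variable {C D : Type u} [SmallCategory C] [SmallCategory D] {J : GrothendieckTopology C}
  {K : GrothendieckTopology D} {O_C : Sheaf J CommRingCat.{u}} {O_D : Sheaf K CommRingCat.{u}}
  (f : ModSite.RMor O_C O_D)

theorem homEquiv_apply {M : ModSite.Mod O_D} {N : ModSite.Mod O_C} (a : f.pull.obj M ⟶ N) {W : D}
    (x : ModSite.sect M W) :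
    (f.adj.homEquiv M N a).val.app (op W) x = a.val.app (op (f.fn.obj W)) (pullSec f M x) :=
  congrArg (fun k => k.val.app (op W) x) (f.adj.homEquiv_unit _ _ a)

theorem pullSec_map {M M' : ModSite.Mod O_D} (α : M ⟶ M') {W : D} (x : ModSite.sect M W) :
    (f.pull.map α).val.app (op (f.fn.obj W)) (pullSec f M x) = pullSec f M' (α.val.app (op W) x) :=
  (congrArg (fun k => k.val.app (op W) x) (f.adj.unit.naturality α)).symm

/-- The comparison on free modules on objects. -/
def pullFreeOnHom (Y : D) : f.pull.obj (ModSite.freeOn O_D Y) ⟶ ModSite.freeOn O_C (f.fn.obj Y) :=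
  (f.adj.homEquiv _ _).symm ((freeOnEquiv O_D Y (f.push.obj (ModSite.freeOn O_C (f.fn.obj Y)))).symm
    (gen O_C (f.fn.obj Y)))

theorem pullFreeOnHom_gen (Y : D) :
    (pullFreeOnHom f Y).val.app (op (f.fn.obj Y)) (pullSec f _ (gen O_D Y)) = gen O_C (f.fn.obj Y) := by
  rw [← homEquiv_apply, pullFreeOnHom, Equiv.apply_symm_apply, ← freeOnEquiv_apply]
  exact Equiv.apply_symm_apply _ _

theorem isIso_pullFreeOnHom (Y : D) : IsIso (pullFreeOnHom f Y) := by
  rw [isIso_iff_coyoneda_map_bijective]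
  intro M
  have h : ∀ g : ModSite.freeOn O_C (f.fn.obj Y) ⟶ M,
      freeOnEquiv O_D Y (f.push.obj M) (f.adj.homEquiv _ _ (pullFreeOnHom f Y ≫ g)) =
        freeOnEquiv O_C (f.fn.obj Y) M g := fun g => by
    rw [freeOnEquiv_apply, freeOnEquiv_apply, homEquiv_apply]
    exact congrArg (g.val.app (op (f.fn.obj Y))) (pullFreeOnHom_gen f Y)
  let e := (f.adj.homEquiv (ModSite.freeOn O_D Y) M).trans (freeOnEquiv O_D Y (f.push.obj M))
  refine (e.bijective.of_comp_iff' _).1 ?_
  exact Eq.mpr (congrArg Function.Bijective (funext h)) (freeOnEquiv O_C (f.fn.obj Y) M).bijective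

/-- The inverse image of the free module on an object. -/
def pullFreeOnIso (Y : D) : f.pull.obj (ModSite.freeOn O_D Y) ≅ ModSite.freeOn O_C (f.fn.obj Y) :=
  @asIso _ _ _ _ _ (isIso_pullFreeOnHom f Y)

/-- `f^*(j_!(G|Y)) ≅ j_!((f^*G)|f⁻¹Y)`. -/
def nu (Y : D) (G : ModSite.Mod O_D) :
    f.pull.obj ((ModSite.extZero O_D Y).obj ((ModSite.restr O_D Y).obj G)) ≅
      (ModSite.extZero O_C (f.fn.obj Y)).obj ((ModSite.restr O_C (f.fn.obj Y)).obj (f.pull.obj G)) :=
  f.pull.mapIso (jTensorIso O_D Y G) ≪≫ pullTensorIso f (ModSite.freeOn O_D Y) G ≪≫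
    ((ModSite.tensorBi O_C).mapIso (pullFreeOnIso f Y)).app (f.pull.obj G) ≪≫
    (jTensorIso O_C (f.fn.obj Y) (f.pull.obj G)).symm

theorem nu_ju (Y : D) (G : ModSite.Mod O_D) (x : ModSite.sect G Y) :
    (nu f Y G).hom.val.app (op (f.fn.obj Y)) (pullSec f _ (ju O_D Y (P := (ModSite.restr O_D Y).obj G) x)) =
      ju O_C (f.fn.obj Y) (P := (ModSite.restr O_C (f.fn.obj Y)).obj (f.pull.obj G)) (pullSec f G x) := by
  let X := f.fn.obj Y
  have e1 := pullSec_map f (jTensorIso O_D Y G).hom (ju O_D Y (P := (ModSite.restr O_D Y).obj G) x)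
  rw [jTensorIso_ju] at e1
  have e2 := phi_pullSec f (ModSite.freeOn O_D Y) G (gen O_D Y) x
  have e3 := tm_map (f.pull.obj (ModSite.freeOn O_D Y)) (f.pull.obj G) (pullFreeOnHom f Y) (𝟙 _)
    (pullSec f _ (gen O_D Y)) (pullSec f G x)
  rw [pullFreeOnHom_gen] at e3
  let T := (((ModSite.tensorBi O_C).mapIso (pullFreeOnIso f Y)).app (f.pull.obj G)).hom
  have hT : T = (shf O_C).map ((forgetP O_C).map (pullFreeOnHom f Y) ⊗ₘ (forgetP O_C).map (𝟙 (f.pull.obj G))) := by
    rw [CategoryTheory.Functor.map_id, tensorHom_id]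
    rfl
  refine (congrArg (fun t => (jTensorIso O_C X (f.pull.obj G)).inv.val.app (op X) (T.val.app (op X)
    ((phi f _ G).val.app (op X) t))) e1).trans ?_
  refine (congrArg (fun t => (jTensorIso O_C X (f.pull.obj G)).inv.val.app (op X) (T.val.app (op X) t)) e2).trans ?_
  rw [hT]
  refine (congrArg (fun t => (jTensorIso O_C X (f.pull.obj G)).inv.val.app (op X) t) e3).trans ?_
  rw [← jTensorIso_ju]
  exact congrArg (fun k => k.val.app (op X) (ju O_C X (P := (ModSite.restr O_C X).obj (f.pull.obj G)) (pullSec f G x)))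
    (jTensorIso O_C X (f.pull.obj G)).hom_inv_id

theorem hom_ext_pull_free (Y : D) {I : Type u} {N : ModSite.Mod O_C}
    (a b : f.pull.obj ((ModSite.extZero O_D Y).obj
      (SheafOfModules.free (R := (ModSite.ringSh O_D).over Y) I)) ⟶ N)
    (h : ∀ i, a.val.app (op (f.fn.obj Y))
        (pullSec f _ (ju O_D Y (GlobFree25.e ((ModSite.ringSh O_D).over Y) (X := Over.mk (𝟙 Y)) i))) =
      b.val.app (op (f.fn.obj Y))
        (pullSec f _ (ju O_D Y (GlobFree25.e ((ModSite.ringSh O_D).over Y) (X := Over.mk (𝟙 Y)) i)))) : a = b :=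
  (f.adj.homEquiv _ _).injective (hom_ext_free O_D Y _ _ fun i => by
    rw [homEquiv_apply, homEquiv_apply]
    exact h i)

end morphism

end GrothLib.PullPres25
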