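import Groth.Agent.Lib.PullPres25.Elements
import Groth.Agent.Lib.HomColim25.Local
import Mathlib.Algebra.Category.ModuleCat.Sheaf.Quasicoherent
import Mathlib.Algebra.Category.ModuleCat.Sheaf.LocallyFree

/-! # Generators and presentations of the inverse image -/

set_option autoImplicit false
set_option linter.all false
set_option maxHeartbeats 1600000
set_option backward.isDefEq.respectTransparency false
set_option backward.isDefEq.respectTransparency.types false
universe u

open CategoryTheory CategoryTheory.Limits Opposite GrothLib.SheafCoh GrothLib.PullLoc25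

noncomputable section

namespace GrothLib.PullPres25

section slice

variable {C : Type u} [SmallCategory C] {J : GrothendieckTopology C} (O : Sheaf J CommRingCat.{u}) (U : C)

/-- Free modules on a slice. -/
abbrev sFree (I : Type u) : ModSite.Mod (O.over U) := SheafOfModules.free (R := (ModSite.ringSh O).over U) I

/-- Free modules. -/
abbrev gFree (I : Type u) : ModSite.Mod O := SheafOfModules.free (R := ModSite.ringSh O) I

/-- The basis of a free module on a slice, at the base. -/
abbrev se {I : Type u} (i : I) : top O U (sFree O U I) :=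
  GlobFree25.e ((ModSite.ringSh O).over U) (X := Over.mk (𝟙 U)) i

/-- The basis of a free module at an object. -/
def ge {I : Type u} (i : I) : ModSite.sect (gFree O I) U :=
  (SheafOfModules.ιFree (R := ModSite.ringSh O) i).val.app (op U) (1 : O.obj.obj (op U))

theorem se_eq {I : Type u} (i : I) :
    se O U i = (SheafOfModules.ιFree (R := (ModSite.ringSh O).over U) i).val.app (op (Over.mk (𝟙 U)))
      (1 : O.obj.obj (op U)) := by
  change (((SheafOfModules.ιFree (R := (ModSite.ringSh O).over U) i) ≫ 𝟙 _).val.app (op (Over.mk (𝟙 U))))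
      (1 : O.obj.obj (op U)) = _
  rw [Category.comp_id]

/-- Restriction carries free modules to free modules. -/
theorem exists_sFreeIso (I : Type u) : ∃ a : sFree O U I ≅ (ModSite.restr O U).obj (gFree O I),
    ∀ i, a.hom.val.app (op (Over.mk (𝟙 U))) (se O U i) = ge O U i := by
  have := HomColim25.preservesColimits_restr (O := O) U
  let h₁ := SheafOfModules.isColimitFreeCofan (R := (ModSite.ringSh O).over U) I
  let h₂ := isColimitCofanMkObjOfIsColimit (ModSite.restr O U) _ _
    (SheafOfModules.isColimitFreeCofan (R := ModSite.ringSh O) I)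
  refine ⟨h₁.coconePointUniqueUpToIso h₂, fun i => ?_⟩
  rw [se_eq]
  exact congrArg (fun k => k.val.app (op (Over.mk (𝟙 U))) (1 : O.obj.obj (op U)))
    (h₁.comp_coconePointUniqueUpToIso_hom h₂ ⟨i⟩)

theorem hom_ext_sFree {I : Type u} {M : ModSite.Mod (O.over U)} (a b : sFree O U I ⟶ M)
    (h : ∀ i, a.val.app (op (Over.mk (𝟙 U))) (se O U i) = b.val.app (op (Over.mk (𝟙 U))) (se O U i)) : a = b :=
  GlobFree25.hom_ext_free ((ModSite.ringSh O).over U) Over.mkIdTerminal a b h

/-- The map out of a free module with given values. -/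
def sDesc {I : Type u} {M : ModSite.Mod (O.over U)} (m : I → top O U M) : sFree O U I ⟶ M :=
  GlobFree25.descTop ((ModSite.ringSh O).over U) Over.mkIdTerminal m

theorem sDesc_se {I : Type u} {M : ModSite.Mod (O.over U)} (m : I → top O U M) (i : I) :
    (sDesc O U m).val.app (op (Over.mk (𝟙 U))) (se O U i) = m i :=
  GlobFree25.descTop_e ((ModSite.ringSh O).over U) Over.mkIdTerminal m i

end slice

section morphism

variable {C D : Type u} [SmallCategory C] [SmallCategory D] {J : GrothendieckTopology C}
  {K : GrothendieckTopology D} {O_C : Sheaf J CommRingCat.{u}} {O_D : Sheaf K CommRingCat.{u}}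
  (f : ModSite.RMor O_C O_D)

theorem pullUnit_one (Y : D) :
    (pullUnitIso f).hom.val.app (op (f.fn.obj Y))
      (pullSec f (ModSite.unit O_D) (1 : O_D.obj.obj (op Y))) = (1 : O_C.obj.obj (op (f.fn.obj Y))) := by
  rw [← homEquiv_apply]
  refine (congrArg (fun k => k.val.app (op Y) (1 : O_D.obj.obj (op Y)))
    (SheafOfModules.pullbackPushforwardAdjunction_homEquiv_pullbackObjUnitToUnit f.sharpR)).trans ?_
  exact map_one (f.sharpR.hom.app (op Y)).hom

theorem pullFree_ge (Y : D) {I : Type u} (i : I) :
    (pullFreeIso f I).hom.val.app (op (f.fn.obj Y)) (pullSec f _ (ge O_D Y i)) = ge O_C (f.fn.obj Y) i := by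
  have : PreservesColimitsOfShape (Discrete I) f.pull :=
    f.adj.leftAdjoint_preservesColimits.preservesColimitsOfShape
  have h : f.pull.map (SheafOfModules.ιFree (R := ModSite.ringSh O_D) i) ≫ (pullFreeIso f I).hom =
      (pullUnitIso f).hom ≫ SheafOfModules.ιFree (R := ModSite.ringSh O_C) i := by
    simp only [pullFreeIso, Iso.trans_hom, SheafOfModules.ιFree]
    rw [← ι_comp_sigmaComparison, ← PreservesCoproduct.inv_hom, Category.assoc, Iso.inv_hom_id_assoc,
      Sigma.mapIso]
    simp
  have h1 := congrArg (fun k => k.val.app (op (f.fn.obj Y)) (pullSec f _ (1 : O_D.obj.obj (op Y)))) h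
  refine Eq.trans ?_ (h1.trans ?_)
  · exact congrArg ((pullFreeIso f I).hom.val.app (op (f.fn.obj Y))) (pullSec_map f _ _).symm
  · exact congrArg ((SheafOfModules.ιFree (R := ModSite.ringSh O_C) i).val.app (op (f.fn.obj Y))) (pullUnit_one f Y)

variable (Y : D)

/-- `f^* j_!` of a map of slice modules. -/
abbrev FJ {M M' : ModSite.Mod (O_D.over Y)} (a : M ⟶ M') := f.pull.map ((ModSite.extZero O_D Y).map a)

theorem FJ_pullSec_ju {M M' : ModSite.Mod (O_D.over Y)} (a : M ⟶ M') (x : top O_D Y M) :
    (FJ f Y a).val.app (op (f.fn.obj Y)) (pullSec f _ (ju O_D Y x)) =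
      pullSec f _ (ju O_D Y (a.val.app (op (Over.mk (𝟙 Y))) x)) :=
  (pullSec_map f _ _).trans (congrArg (pullSec f _) (ju_natural O_D Y a x).symm)

/-- `f^* j_!` of a free module of the slice. -/
def nuFree (I : Type u) :
    f.pull.obj ((ModSite.extZero O_D Y).obj (sFree O_D Y I)) ≅
      (ModSite.extZero O_C (f.fn.obj Y)).obj (sFree O_C (f.fn.obj Y) I) :=
  f.pull.mapIso ((ModSite.extZero O_D Y).mapIso (exists_sFreeIso O_D Y I).choose) ≪≫ nu f Y (gFree O_D I) ≪≫
    (ModSite.extZero O_C (f.fn.obj Y)).mapIso ((ModSite.restr O_C (f.fn.obj Y)).mapIso (pullFreeIso f I)) ≪≫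
    (ModSite.extZero O_C (f.fn.obj Y)).mapIso (exists_sFreeIso O_C (f.fn.obj Y) I).choose.symm

/-- The pulled back element of a free module of the slice. -/
def pullElt {I : Type u} (x : top O_D Y (sFree O_D Y I)) : top O_C (f.fn.obj Y) (sFree O_C (f.fn.obj Y) I) :=
  (exists_sFreeIso O_C (f.fn.obj Y) I).choose.inv.val.app (op (Over.mk (𝟙 (f.fn.obj Y))))
    ((pullFreeIso f I).hom.val.app (op (f.fn.obj Y))
      (pullSec f _ ((exists_sFreeIso O_D Y I).choose.hom.val.app (op (Over.mk (𝟙 Y))) x :
        ModSite.sect (gFree O_D I) Y)))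

theorem pullElt_se {I : Type u} (i : I) : pullElt f Y (se O_D Y i) = se O_C (f.fn.obj Y) i := by
  let a := (exists_sFreeIso O_C (f.fn.obj Y) I).choose
  unfold pullElt
  rw [(exists_sFreeIso O_D Y I).choose_spec i]
  refine (congrArg (a.inv.val.app _) ((pullFree_ge f Y i).trans
    ((exists_sFreeIso O_C (f.fn.obj Y) I).choose_spec i).symm)).trans ?_
  exact congrArg (fun k => k.val.app (op (Over.mk (𝟙 (f.fn.obj Y)))) (se O_C (f.fn.obj Y) i)) a.hom_inv_id

theorem nuFree_ju {I : Type u} (x : top O_D Y (sFree O_D Y I)) :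
    (nuFree f Y I).hom.val.app (op (f.fn.obj Y)) (pullSec f _ (ju O_D Y x)) =
      ju O_C (f.fn.obj Y) (pullElt f Y x) := by
  let X := f.fn.obj Y
  let aD := (exists_sFreeIso O_D Y I).choose
  let aC := (exists_sFreeIso O_C X I).choose
  let B := (ModSite.restr O_C X).map (pullFreeIso f I).hom
  have e1 := FJ_pullSec_ju f Y aD.hom x
  have e2 := nu_ju f Y (gFree O_D I) (aD.hom.val.app (op (Over.mk (𝟙 Y))) x)
  refine (congrArg (fun t => ((ModSite.extZero O_C X).map aC.inv).val.app (op X)
    (((ModSite.extZero O_C X).map B).val.app (op X) ((nu f Y (gFree O_D I)).hom.val.app (op X) t))) e1).trans ?_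
  refine (congrArg (fun t => ((ModSite.extZero O_C X).map aC.inv).val.app (op X)
    (((ModSite.extZero O_C X).map B).val.app (op X) t)) e2).trans ?_
  refine (congrArg (fun t => ((ModSite.extZero O_C X).map aC.inv).val.app (op X) t) (ju_natural O_C X B _).symm).trans ?_
  exact (ju_natural O_C X aC.inv _).symm

/-- The pulled back map between free modules of slices. -/
def pullRel {R I : Type u} (ρ : sFree O_D Y R ⟶ sFree O_D Y I) :
    sFree O_C (f.fn.obj Y) R ⟶ sFree O_C (f.fn.obj Y) I :=
  sDesc O_C _ fun k => pullElt f Y (ρ.val.app (op (Over.mk (𝟙 Y))) (se O_D Y k))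

theorem nuFree_pullRel {R I : Type u} (ρ : sFree O_D Y R ⟶ sFree O_D Y I) :
    (nuFree f Y R).hom ≫ (ModSite.extZero O_C (f.fn.obj Y)).map (pullRel f Y ρ) = FJ f Y ρ ≫ (nuFree f Y I).hom := by
  refine hom_ext_pull_free f Y _ _ fun k => ?_
  refine (congrArg (((ModSite.extZero O_C (f.fn.obj Y)).map (pullRel f Y ρ)).val.app (op (f.fn.obj Y)))
    (nuFree_ju f Y (se O_D Y k))).trans ?_
  refine ((ju_natural O_C _ (pullRel f Y ρ) _).symm).trans ?_
  refine Eq.trans ?_ ((congrArg ((nuFree f Y I).hom.val.app (op (f.fn.obj Y)))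
    (FJ_pullSec_ju f Y ρ (se O_D Y k))).trans (nuFree_ju f Y _)).symm
  refine congrArg (ju O_C (f.fn.obj Y)) ?_
  rw [pullElt_se]
  exact sDesc_se O_C _ _ k

variable (F : ModSite.Mod O_D)

/-- The pulled back generators. -/
def pullGen {I : Type u} (π : sFree O_D Y I ⟶ (ModSite.restr O_D Y).obj F) :
    sFree O_C (f.fn.obj Y) I ⟶ (ModSite.restr O_C (f.fn.obj Y)).obj (f.pull.obj F) :=
  sDesc O_C _ fun i => pullSec f F (π.val.app (op (Over.mk (𝟙 Y))) (se O_D Y i) : ModSite.sect F Y)

theorem nuFree_pullGen {I : Type u} (π : sFree O_D Y I ⟶ (ModSite.restr O_D Y).obj F) :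
    (nuFree f Y I).hom ≫ (ModSite.extZero O_C (f.fn.obj Y)).map (pullGen f Y F π) = FJ f Y π ≫ (nu f Y F).hom := by
  refine hom_ext_pull_free f Y _ _ fun i => ?_
  refine (congrArg (((ModSite.extZero O_C (f.fn.obj Y)).map (pullGen f Y F π)).val.app (op (f.fn.obj Y)))
    (nuFree_ju f Y (se O_D Y i))).trans ?_
  refine ((ju_natural O_C _ (pullGen f Y F π) _).symm).trans ?_
  refine Eq.trans ?_ ((congrArg ((nu f Y F).hom.val.app (op (f.fn.obj Y)))
    (FJ_pullSec_ju f Y π (se O_D Y i))).trans (nu_ju f Y F _)).symm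
  refine congrArg (ju O_C (f.fn.obj Y)) ?_
  rw [pullElt_se]
  exact sDesc_se O_C _ _ i

theorem epi_pullGen {I : Type u} (π : sFree O_D Y I ⟶ (ModSite.restr O_D Y).obj F) [Epi π] :
    Epi (pullGen f Y F π) := by
  have := ModExtZero.faithful_extZero O_C (f.fn.obj Y)
  have : (ModSite.extZero O_D Y).IsLeftAdjoint := (ModSite.extZeroAdj O_D Y).isLeftAdjoint
  have : f.pull.IsLeftAdjoint := f.adj.isLeftAdjoint
  have : Epi ((ModSite.extZero O_C (f.fn.obj Y)).map (pullGen f Y F π)) := by
    have h := nuFree_pullGen f Y F π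
    have : Epi ((nuFree f Y I).hom ≫ (ModSite.extZero O_C (f.fn.obj Y)).map (pullGen f Y F π)) := by
      rw [h]; infer_instance
    exact epi_of_epi (nuFree f Y I).hom _
  exact (ModSite.extZero O_C (f.fn.obj Y)).epi_of_epi_map this

theorem isIso_pullGen {I : Type u} (π : sFree O_D Y I ⟶ (ModSite.restr O_D Y).obj F) [IsIso π] :
    IsIso (pullGen f Y F π) := by
  have := ModExtZero.faithful_extZero O_C (f.fn.obj Y)
  have : IsIso ((ModSite.extZero O_C (f.fn.obj Y)).map (pullGen f Y F π)) := by
    have h := nuFree_pullGen f Y F π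
    have : IsIso ((nuFree f Y I).hom ≫ (ModSite.extZero O_C (f.fn.obj Y)).map (pullGen f Y F π)) := by
      rw [h]; infer_instance
    exact IsIso.of_isIso_comp_left (nuFree f Y I).hom _
  exact isIso_of_reflects_iso _ (ModSite.extZero O_C (f.fn.obj Y))

/-- The pulled back presentation. -/
theorem exists_presentation (p : SheafOfModules.Presentation (R := (ModSite.ringSh O_D).over Y) (F.over Y)) :
    ∃ q : SheafOfModules.Presentation (R := (ModSite.ringSh O_C).over (f.fn.obj Y)) ((f.pull.obj F).over (f.fn.obj Y)),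
      p.IsFinite → q.IsFinite := by
  let X := f.fn.obj Y
  let π : sFree O_D Y p.generators.I ⟶ (ModSite.restr O_D Y).obj F := p.generators.π
  let ρ : sFree O_D Y p.relations.I ⟶ sFree O_D Y p.generators.I :=
    (SheafOfModules.freeHomEquiv _).symm p.relations.s ≫ kernel.ι p.generators.π
  have w : ρ ≫ π = 0 := (Category.assoc _ _ _).trans ((congrArg (_ ≫ ·) (kernel.condition _)).trans comp_zero)
  let S : ShortComplex (ModSite.Mod (O_D.over Y)) := ShortComplex.mk ρ π w
  have hS : IsColimit (CokernelCofork.ofπ S.g S.zero) := p.isColimit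
  have : Epi π := inferInstanceAs (Epi p.generators.π)
  have := ModExtZero.faithful_extZero O_C X
  have : (ModSite.extZero O_D Y).IsLeftAdjoint := (ModSite.extZeroAdj O_D Y).isLeftAdjoint
  have : f.pull.IsLeftAdjoint := f.adj.isLeftAdjoint
  have : (ModSite.extZero O_C X).IsLeftAdjoint := (ModSite.extZeroAdj O_C X).isLeftAdjoint
  have := ModExtZero.additive_extZero O_C X
  have := ModExtZero.additive_extZero O_D Y
  have : f.pull.Additive := f.adj.left_adjoint_additive
  let G := ModSite.extZero O_D Y ⋙ f.pull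
  have : G.IsLeftAdjoint := Functor.isLeftAdjoint_comp _ _
  have : PreservesFiniteColimits G := PreservesColimitsOfSize.preservesFiniteColimits.{u, u} _
  have hGS : (S.map G).Exact :=
    (ShortComplex.exact_of_g_is_cokernel S hS).map_of_epi_of_preservesCokernel G inferInstance inferInstance
  have hGg : Epi (G.map π) := inferInstance
  have w' : pullRel f Y ρ ≫ pullGen f Y F π = 0 := by
    apply (ModSite.extZero O_C X).map_injective
    rw [Functor.map_comp, Functor.map_zero, ← cancel_epi (nuFree f Y p.relations.I).hom, ← Category.assoc,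
      nuFree_pullRel, Category.assoc, nuFree_pullGen, comp_zero]
    change G.map ρ ≫ G.map π ≫ _ = 0
    rw [← Category.assoc, ← Functor.map_comp, w, Functor.map_zero, zero_comp]
  let S' : ShortComplex (ModSite.Mod (O_C.over X)) := ShortComplex.mk (pullRel f Y ρ) (pullGen f Y F π) w'
  let e : S.map G ≅ S'.map (ModSite.extZero O_C X) :=
    ShortComplex.isoMk (nuFree f Y _) (nuFree f Y _) (nu f Y F) (nuFree_pullRel f Y ρ) (nuFree_pullGen f Y F π)
  have hS' : S'.Exact :=
    ModExtZero.exact_of_exact_map_extZero O_C X S' (ShortComplex.exact_of_iso e hGS)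
  have : Epi S'.g := epi_pullGen f Y F π
  refine ⟨SheafOfModules.presentationOfIsCokernelFree (pullRel f Y ρ) (pullGen f Y F π) w' hS'.gIsCokernel,
    fun hp => ?_⟩
  have hI : Finite p.generators.I := hp.isFiniteType_generators.finite
  have hR : Finite p.relations.I := hp.isFiniteType_relations.finite
  exact { isFiniteType_generators := ⟨hI⟩, isFiniteType_relations := ⟨hR⟩ }

/-- The pulled back generators, as generating sections. -/
def pullGenerators (σ : SheafOfModules.GeneratingSections (R := (ModSite.ringSh O_D).over Y) (F.over Y)) :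
    SheafOfModules.GeneratingSections (R := (ModSite.ringSh O_C).over (f.fn.obj Y))
      ((f.pull.obj F).over (f.fn.obj Y)) where
  I := σ.I
  s := SheafOfModules.freeHomEquiv _ (pullGen f Y F σ.π)
  epi := by
    rw [Equiv.symm_apply_apply]
    exact epi_pullGen f Y F σ.π

theorem isIso_pullGenerators_π
    (σ : SheafOfModules.GeneratingSections (R := (ModSite.ringSh O_D).over Y) (F.over Y)) [IsIso σ.π] :
    IsIso (pullGenerators f Y F σ).π := by
  change IsIso ((SheafOfModules.freeHomEquiv _).symm (SheafOfModules.freeHomEquiv _ (pullGen f Y F σ.π)))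
  rw [Equiv.symm_apply_apply]
  exact isIso_pullGen f Y F σ.π

omit Y F in
theorem coversTop_fn {I : Type u} {Y : I → D} (hY : K.CoversTop Y) :
    J.CoversTop fun i => f.fn.obj (Y i) := by
  intro V
  obtain ⟨S, hS, h⟩ := exists_over (J := J) K f.fn V
  refine J.transitive hS _ fun V' g hg => ?_
  obtain ⟨W, ⟨p⟩⟩ := h g hg
  obtain ⟨T, hT, h'⟩ := exists_cover (J := J) K f.fn p (hY W)
  refine J.superset_covering (fun V'' e he => ?_) hT
  obtain ⟨W', c, p', ⟨i, ⟨a⟩⟩, -⟩ := h' e he
  exact ⟨i, ⟨p' ≫ f.fn.map a⟩⟩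

omit Y in
theorem isQuasicoherent_pull [h : SheafOfModules.IsQuasicoherent (R := ModSite.ringSh O_D) F] :
    SheafOfModules.IsQuasicoherent (R := ModSite.ringSh O_C) (f.pull.obj F) := by
  obtain ⟨q⟩ := h.nonempty_quasicoherentData
  let d : SheafOfModules.QuasicoherentData.{u} (R := ModSite.ringSh O_C) (f.pull.obj F) :=
    { I := q.I
      X := fun i => f.fn.obj (q.X i)
      coversTop := coversTop_fn f q.coversTop
      presentation := fun i => (exists_presentation f (q.X i) F (q.presentation i)).choose }
  exact d.isQuasicoherent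

omit Y in
theorem isFinitePresentation_pull [h : SheafOfModules.IsFinitePresentation (R := ModSite.ringSh O_D) F] :
    SheafOfModules.IsFinitePresentation (R := ModSite.ringSh O_C) (f.pull.obj F) := by
  obtain ⟨q, hq⟩ := h.exists_quasicoherentData
  let d : SheafOfModules.QuasicoherentData.{u} (R := ModSite.ringSh O_C) (f.pull.obj F) :=
    { I := q.I
      X := fun i => f.fn.obj (q.X i)
      coversTop := coversTop_fn f q.coversTop
      presentation := fun i => (exists_presentation f (q.X i) F (q.presentation i)).choose }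
  have hd : ∀ i : q.I, (exists_presentation f (q.X i) F (q.presentation i)).choose.IsFinite := fun i =>
    (exists_presentation f (q.X i) F (q.presentation i)).choose_spec (hq.isFinite_presentation i)
  have hd' : d.IsFinitePresentation := { isFinite_presentation := hd }
  exact { exists_quasicoherentData := ⟨d, hd'⟩ }

omit Y in
/-- The pulled back local generators. -/
def pullLocGen (q : SheafOfModules.LocalGeneratorsData.{u} (R := ModSite.ringSh O_D) F) :
    SheafOfModules.LocalGeneratorsData.{u} (R := ModSite.ringSh O_C) (f.pull.obj F) where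
  I := q.I
  X i := f.fn.obj (q.X i)
  coversTop := coversTop_fn f q.coversTop
  generators i := pullGenerators f (q.X i) F (q.generators i)

omit Y in
theorem isFiniteType_pull [h : SheafOfModules.IsFiniteType (R := ModSite.ringSh O_D) F] :
    SheafOfModules.IsFiniteType (R := ModSite.ringSh O_C) (f.pull.obj F) := by
  obtain ⟨q, hq⟩ := h.exists_localGeneratorsData
  have hd : ∀ i : q.I, ((pullLocGen f F q).generators i).IsFiniteType := fun i =>
    ({ finite := (hq.isFiniteType i).finite } : ((pullLocGen f F q).generators i).IsFiniteType)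
  have hd' : (pullLocGen f F q).IsFiniteType := { isFiniteType := hd }
  exact { exists_localGeneratorsData := ⟨pullLocGen f F q, hd'⟩ }

omit Y in
theorem isLocallyFree_pull [h : SheafOfModules.IsLocallyFree (R := ModSite.ringSh O_D) F] :
    SheafOfModules.IsLocallyFree (R := ModSite.ringSh O_C) (f.pull.obj F) := by
  obtain ⟨q, hq⟩ := h.exists_isLocallyFreeData
  have hd : ∀ i : q.I, IsIso ((pullLocGen f F q).generators i).π := fun i =>
    haveI := hq.isIso i
    isIso_pullGenerators_π f (q.X i) F (q.generators i)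
  have hd' : (pullLocGen f F q).IsLocallyFreeData := { isIso := hd }
  exact { exists_isLocallyFreeData := ⟨pullLocGen f F q, hd'⟩ }

end morphism

end GrothLib.PullPres25
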